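import Mathlib.RingTheory.PowerSeries.Order
import Mathlib.RingTheory.PowerSeries.Inverse
import Mathlib.LinearAlgebra.Dimension.Constructions
import Mathlib.LinearAlgebra.Projection
import Mathlib.RingTheory.Finiteness.Basic

/-!
# Value sets of subspaces of `k[[t]]`
-/

namespace GrothLib.ValueSet

open PowerSeries

universe u

variable {k : Type u} [Field k] (A : Submodule k k⟦X⟧)

/-- Approximation modulo high order by elements of `A`, in the sense of `t`-adic closure. -/
def IsClosedTAdic : Prop :=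
  ∀ f : k⟦X⟧, (∀ n : ℕ, ∃ g ∈ A, (n : ℕ∞) ≤ (f - g).order) → f ∈ A

theorem le_order_iff {n : ℕ} {f : k⟦X⟧} : (n : ℕ∞) ≤ f.order ↔ ∀ i < n, coeff i f = 0 :=
  ⟨fun h i hi => coeff_of_lt_order i (lt_of_lt_of_le (by exact_mod_cast hi) h),
    fun h => nat_le_order f n h⟩

theorem exists_approx {c : ℕ} (hval : ∀ m, c ≤ m → ∃ a ∈ A, a.order = (m : ℕ∞)) {f : k⟦X⟧}
    (hf : (c : ℕ∞) ≤ f.order) (n : ℕ) : ∃ g ∈ A, (n : ℕ∞) ≤ (f - g).order := by
  suffices ∃ g ∈ A, ∀ i < max n c, coeff i (f - g) = 0 by
    obtain ⟨g, hg, h⟩ := this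
    exact ⟨g, hg, le_order_iff.mpr fun i hi => h i (lt_of_lt_of_le hi (le_max_left _ _))⟩
  induction n with
  | zero => exact ⟨0, A.zero_mem, fun i hi => by simpa using le_order_iff.mp hf i (by simpa using hi)⟩
  | succ n ih =>
    obtain ⟨g, hg, h⟩ := ih
    by_cases hnc : c ≤ n
    · rw [max_eq_left hnc] at h
      obtain ⟨a, ha, hao⟩ := hval n hnc
      have hane : coeff n a ≠ 0 := by
        have := (order_eq_nat).mp hao
        exact this.1
      refine ⟨g + (coeff n (f - g) / coeff n a) • a, A.add_mem hg (A.smul_mem _ ha), fun i hi => ?_⟩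
      rw [max_eq_left (by omega)] at hi
      rw [← sub_sub, map_sub, map_smul, smul_eq_mul]
      rcases Nat.lt_succ_iff_lt_or_eq.mp hi with hin | rfl
      · rw [h i hin, coeff_of_lt_order i (by rw [hao]; exact_mod_cast hin)]; ring
      · rw [div_mul_cancel₀ _ hane, sub_self]
    · exact ⟨g, hg, fun i hi => h i (by
        rw [max_eq_right (by omega)] at hi ⊢; exact hi)⟩

theorem mem_of_le_order (hcl : IsClosedTAdic A) {c : ℕ}
    (hval : ∀ m, c ≤ m → ∃ a ∈ A, a.order = (m : ℕ∞)) {f : k⟦X⟧} (hf : (c : ℕ∞) ≤ f.order) :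
    f ∈ A :=
  hcl f (exists_approx A hval hf)

theorem finrank_quotient_eq_ncard (hcl : IsClosedTAdic A) (G : Set ℕ)
    (hG : ∀ n, n ∉ G ↔ ∃ f ∈ A, f.order = (n : ℕ∞)) (hfin : G.Finite) :
    Module.finrank k (k⟦X⟧ ⧸ A) = G.ncard := by
  classical
  have := hfin.fintype
  obtain ⟨c, hc⟩ : ∃ c, ∀ n ∈ G, n < c :=
    ⟨hfin.toFinset.sup id + 1, fun n hn =>
      Nat.lt_succ_of_le (Finset.le_sup (f := id) (hfin.mem_toFinset.mpr hn))⟩
  let v : G → k⟦X⟧ := fun n => monomial (n : ℕ) 1
  let W := Submodule.span k (Set.range v)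
  have hli : LinearIndependent k v := by
    rw [Fintype.linearIndependent_iff]
    intro a ha n
    have := congrArg (coeff (n : ℕ)) ha
    simpa [v, coeff_monomial, Subtype.val_inj] using this
  have hcompl : IsCompl W A := by
    constructor
    · rw [Submodule.disjoint_def]
      intro x hxW hxA
      by_contra hx
      have hcoe : ∀ n, n ∉ G → coeff n x = 0 := by
        intro n hn
        clear hxA hx
        induction hxW using Submodule.span_induction with
        | mem y hy =>
          obtain ⟨m, rfl⟩ := hy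
          rw [coeff_monomial, if_neg]
          rintro rfl; exact hn m.2
        | zero => simp
        | add y z _ _ hy hz => simp_all
        | smul r y _ hy => simp_all
      obtain ⟨n, hn⟩ := ENat.ne_top_iff_exists.mp (mt order_eq_top.mp hx)
      by_cases hnG : n ∈ G
      · exact (hG n).mpr ⟨x, hxA, hn.symm⟩ hnG
      · exact (order_eq_nat.mp hn.symm).1 (hcoe n hnG)
    · rw [codisjoint_iff, eq_top_iff]
      intro f _
      suffices ∀ d : ℕ, ∃ y ∈ W ⊔ A, ∀ i < d, coeff i (f - y) = 0 by
        obtain ⟨y, hy, h⟩ := this c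
        have hmem : f - y ∈ A := mem_of_le_order A hcl
          (fun m hm => (hG m).mp fun hmG => absurd (hc m hmG) (by omega)) (le_order_iff.mpr h)
        simpa using add_mem (Submodule.mem_sup_right (S := W) hmem) hy
      intro d
      induction d with
      | zero => exact ⟨0, zero_mem _, fun i hi => absurd hi (Nat.not_lt_zero i)⟩
      | succ d ih =>
        obtain ⟨y, hy, h⟩ := ih
        obtain ⟨a, ha, hlt, hne⟩ : ∃ a ∈ W ⊔ A, (∀ i < d, coeff i a = 0) ∧ coeff d a ≠ 0 := by
          by_cases hdG : d ∈ G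
          · refine ⟨monomial d 1, Submodule.mem_sup_left (Submodule.subset_span ⟨⟨d, hdG⟩, rfl⟩),
              fun i hi => ?_, by simp⟩
            rw [coeff_monomial, if_neg (by omega)]
          · obtain ⟨a, ha, hao⟩ := (hG d).mp hdG
            exact ⟨a, Submodule.mem_sup_right ha,
              fun i hi => (order_eq_nat.mp hao).2 i hi, (order_eq_nat.mp hao).1⟩
        refine ⟨y + (coeff d (f - y) / coeff d a) • a, add_mem hy (Submodule.smul_mem _ _ ha),
          fun i hi => ?_⟩
        rw [← sub_sub, map_sub, map_smul, smul_eq_mul]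
        rcases Nat.lt_succ_iff_lt_or_eq.mp hi with hid | rfl
        · rw [h i hid, hlt i hid]; ring
        · rw [div_mul_cancel₀ _ hne, sub_self]
  rw [(Submodule.quotientEquivOfIsCompl A W hcompl.symm).finrank_eq, finrank_span_eq_card hli,
    Set.ncard_eq_toFinset_card', Set.toFinset_card]

end GrothLib.ValueSet
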